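import Groth.Agent.ToposFinLib.FiltCol
import Mathlib.CategoryTheory.Limits.FunctorCategory.Basic
import Mathlib.CategoryTheory.Limits.Shapes.Pullback.HasPullback

/-!
Filtered colimits of sheaves of sets on a site all of whose objects are quasi-compact.
-/

set_option autoImplicit false
set_option backward.isDefEq.respectTransparency false
set_option linter.style.haveILetI false

universe u

open CategoryTheory Limits Opposite ToposFin ToposFinLib

namespace Groth.Agent.QCSiteColimLib

variable {C : Type u} [SmallCategory C] {J : GrothendieckTopology C}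
  {I : Type u} [SmallCategory I] [IsFiltered I] {D : I ⥤ Sh J} {c : Cocone D}
  (hJ : ∀ U : C, IsQCSite J U)

omit [IsFiltered I] in
theorem isSheafFor_ofArrows {U : C} {n : ℕ} (V : Fin n → C) (g : ∀ k, V k ⟶ U)
    (hV : Sieve.ofArrows V g ∈ J U) (F : Sh J) :
    (Presieve.ofArrows V g).IsSheafFor F.obj :=
  (Presieve.isSheafFor_iff_generate _).2 ((isSheaf_iff_isSheaf_of_type J _).1 F.property _ hV)

omit [IsFiltered I] in
theorem ofArrows_ext {U : C} {n : ℕ} (V : Fin n → C) (g : ∀ k, V k ⟶ U)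
    (hV : Sieve.ofArrows V g ∈ J U) (F : Sh J) {a b : F.obj.obj (op U)}
    (h : ∀ k, F.obj.map (g k).op a = F.obj.map (g k).op b) : a = b := by
  refine (isSheafFor_ofArrows V g hV F).isSeparatedFor.ext fun Z f hf => ?_
  obtain ⟨k⟩ := hf
  exact h k

omit [IsFiltered I] in
theorem app_map_comp' (V : Cᵒᵖ) {i k l : I} (a : i ⟶ k) (b : k ⟶ l) (s : (D.obj i).obj.obj V) :
    (D.map (a ≫ b)).hom.app V s = (D.map b).hom.app V ((D.map a).hom.app V s) :=
  ConcreteCategory.congr_hom (congrArg (fun φ : D.obj i ⟶ D.obj l => φ.hom.app V) (D.map_comp a b)) s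

omit [IsFiltered I] in
theorem app_w' (V : Cᵒᵖ) {i k : I} (a : i ⟶ k) (s : (D.obj i).obj.obj V) :
    (c.ι.app k).hom.app V ((D.map a).hom.app V s) = (c.ι.app i).hom.app V s :=
  ConcreteCategory.congr_hom (congrArg (fun φ : D.obj i ⟶ c.pt => φ.hom.app V) (c.w a)) s

include hJ

theorem stage_eq (hc : IsColimit c) {i : I} {U : C} (s s' : (D.obj i).obj.obj (op U))
    (h : (c.ι.app i).hom.app _ s = (c.ι.app i).hom.app _ s') :
    ∃ (j : I) (φ : i ⟶ j), (D.map φ).hom.app _ s = (D.map φ).hom.app _ s' := by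
  obtain ⟨R, hR, hR'⟩ := local_eq hc s s' h
  obtain ⟨n, V, g, hg, hcov⟩ := hJ U R hR
  obtain ⟨j, φ, hj⟩ := exists_common (I := I) (i := i)
    (fun k j φ => (D.map φ).hom.app _ ((D.obj i).obj.map (g k).op s) =
      (D.map φ).hom.app _ ((D.obj i).obj.map (g k).op s'))
    (fun k => hR' _ _ (hg k))
    (fun k j φ j' ψ hk => by
      dsimp only at hk ⊢
      rw [app_map_comp', app_map_comp', hk])
  refine ⟨j, φ, ofArrows_ext V g hcov (D.obj j) fun k => ?_⟩
  exact (NatTrans.naturality_apply (D.map φ).hom (g k).op s).symm.trans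
    ((hj k).trans (NatTrans.naturality_apply (D.map φ).hom (g k).op s'))

theorem stage_lift [HasPullbacks C] (hc : IsColimit c) {U : C} (s : c.pt.obj.obj (op U)) :
    ∃ (i : I) (t : (D.obj i).obj.obj (op U)), (c.ι.app i).hom.app _ t = s := by
  classical
  have h := ef_colimit hc
  rw [ef_iff_local] at h
  obtain ⟨n, V, g, hg, hcov⟩ := hJ U _ (h U s)
  choose i₀ t₀ ht₀ using hg
  obtain ⟨i, hi⟩ := IsFiltered.sup_objs_exists (Finset.univ.image i₀)
  let ψ : ∀ k, i₀ k ⟶ i := fun k => (hi (Finset.mem_image_of_mem i₀ (Finset.mem_univ k))).some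
  let t : ∀ k, (D.obj i).obj.obj (op (V k)) := fun k => (D.map (ψ k)).hom.app _ (t₀ k)
  have ht : ∀ k, (c.ι.app i).hom.app _ (t k) = c.pt.obj.map (g k).op s := fun k =>
    (app_w' _ (ψ k) (t₀ k)).trans (ht₀ k)
  obtain ⟨j, φ, hj⟩ := exists_common (I := I) (i := i) (κ := Fin n × Fin n)
    (fun a j φ => (D.map φ).hom.app _ ((D.obj i).obj.map (pullback.fst (g a.1) (g a.2)).op (t a.1)) =
      (D.map φ).hom.app _ ((D.obj i).obj.map (pullback.snd (g a.1) (g a.2)).op (t a.2)))
    (fun a => stage_eq hJ hc _ _ (by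
      rw [NatTrans.naturality_apply, NatTrans.naturality_apply, ht, ht]
      dsimp only [Functor.const_obj_obj]
      rw [← FunctorToTypes.map_comp_apply, ← FunctorToTypes.map_comp_apply, ← op_comp, ← op_comp,
        pullback.condition]))
    (fun a j φ j' ψ hk => by
      dsimp only at hk ⊢
      rw [app_map_comp', app_map_comp', hk])
  let x : ∀ k, (D.obj j).obj.obj (op (V k)) := fun k => (D.map φ).hom.app _ (t k)
  obtain ⟨T, hT, -⟩ := (Presieve.isSheafFor_arrows_iff _ _).1 (isSheafFor_ofArrows V g hcov (D.obj j)) x (by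
    intro k l Z gk gl hgl
    have h0 := congrArg ((D.obj j).obj.map (pullback.lift gk gl hgl).op) (hj (k, l))
    simp only [NatTrans.naturality_apply, ← FunctorToTypes.map_comp_apply, ← op_comp,
      pullback.lift_fst, pullback.lift_snd] at h0
    exact h0)
  refine ⟨j, T, ofArrows_ext V g hcov c.pt fun k => ?_⟩
  refine (NatTrans.naturality_apply _ _ _).symm.trans ((congrArg _ (hT k)).trans ?_)
  exact (app_w' _ φ (t k)).trans (ht k)

omit [IsFiltered I] in
theorem preservesColimitsOfShape [IsFiltered I] [HasPullbacks C] :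
    PreservesColimitsOfShape I (sheafToPresheaf J (Type u)) := by
  refine ⟨fun {D} => ⟨fun {c} hc => ⟨evaluationJointlyReflectsColimits _ fun U => ?_⟩⟩⟩
  obtain ⟨U⟩ := U
  refine Types.FilteredColimit.isColimitOf _ _ (fun x => ?_) (fun i j xi xj h => ?_)
  · obtain ⟨i, t, ht⟩ := stage_lift hJ hc x
    exact ⟨i, t, ht.symm⟩
  · obtain ⟨m, φ, hm⟩ := stage_eq hJ hc (i := IsFiltered.max i j) (U := U)
      ((D.map (IsFiltered.leftToMax i j)).hom.app _ xi) ((D.map (IsFiltered.rightToMax i j)).hom.app _ xj)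
      ((app_w' _ (IsFiltered.leftToMax i j) xi).trans (h.trans (app_w' _ (IsFiltered.rightToMax i j) xj).symm))
    exact ⟨m, IsFiltered.leftToMax i j ≫ φ, IsFiltered.rightToMax i j ≫ φ,
      (app_map_comp' _ _ φ xi).trans (hm.trans (app_map_comp' _ _ φ xj).symm)⟩

end Groth.Agent.QCSiteColimLib
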